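/-
A subgroup of the O'Nan group: presentation on three involutions and its certificate.
-/
import Cfsg.Agent.Lib.CosetEnum.SimpleHalf
import Cfsg.Agent.Lib.CosetEnum.Sub
import Cfsg.Agent.Lib.CosetEnum.ONJC.Checks
import Cfsg.Agent.Lib.CosetEnum.ONJA.Main
import Cfsg.Agent.Lib.CosetEnum.ONJB.Main
import Cfsg.Agent.Lib.CosetEnum.ONJZ.Main

set_option autoImplicit false
set_option maxRecDepth 1000000

namespace CfsgLib.CosetEnum.ONJC

open CfsgLib.CosetEnum

theorem hid : ∀ i < pres.k, pres.idx (pres.gen i) = i := fun i hi => Nat.mod_eq_of_lt hi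

theorem upperB : Finite (wordsSub pres.σ ([0, 1].map fun i => [i])) ∧
    Nat.card (wordsSub pres.σ ([0, 1].map fun i => [i])) ≤ 12 :=
  pres.card_step ONJB.sheet ONJB.sel rfl [] pres.der_nil (by decide +kernel) (by decide +kernel) (N := 1) (wordsSub_nil _)

theorem upper : Finite pres.Grp ∧ Nat.card pres.Grp ≤ 175560 := by
  have h := pres.card_step ONJA.sheet ONJA.sel rfl [] pres.der_nil (by decide +kernel) (by decide +kernel) upperB
  have htop : wordsSub pres.σ (ONJA.sel.map fun i => [i]) = ⊤ := by
    rw [← pres.closure_eq_wordsSub, eq_top_iff, ← pres.gen_closure, Subgroup.closure_le]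
    rintro _ ⟨x, hx, rfl⟩
    refine Subgroup.subset_closure ⟨x, hx, ?_⟩
    have hx' : x < 3 := hx
    interval_cases x <;> rfl
  rw [htop, Subgroup.card_top] at h
  exact ⟨Finite.of_equiv _ Subgroup.topEquiv.toEquiv (h := h.1), h.2⟩

theorem lower [Finite pres.Grp] : 175560 * Nat.card (cert.hom hlt).ker ≤ Nat.card pres.Grp := by
  have h2 := cert.level_step hlt hid [0, 1] lev2 lev2_ok (show 2 < 266 by decide) (cert.ker_le_fixSub hlt _)
  have h1 := cert.level_step hlt hid [0] lev1 lev1_ok (show 1 < 266 by decide) h2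
  have h0 := cert.level_step hlt hid [] lev0 lev0_ok (show 0 < 266 by decide) h1
  refine le_trans (le_of_eq ?_) (cert.card_le_of_fixSub hlt h0)
  show _ = 266 * (132 * (5 * Nat.card _))
  ring

theorem card_eq : Nat.card pres.Grp = 175560 := by
  have : Finite pres.Grp := upper.1
  exact le_antisymm upper.2 ((Nat.le_mul_of_pos_right _ Nat.card_pos).trans lower)

theorem isSimple : IsSimpleGroup pres.Grp := by
  have : Finite pres.Grp := upper.1
  exact cert.isSimple_of_fixed hlt hid hhw (cert.hom_injective hlt lower upper.2) orb roots hwR (by decide +kernel) orbs sizes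
    (by decide +kernel) (by decide +kernel) (by decide +kernel) rfl (by decide +kernel)
    (fun x hx => by
      have hx' : x < 3 := hx
      have hf : ∀ y < 3, ((List.range 266).any fun d => Nat.beq (runT table 3 [y] d) d) = true := by decide +kernel
      obtain ⟨d, hd, he⟩ := List.any_eq_true.mp (hf x hx')
      exact ⟨⟨d, List.mem_range.mp hd⟩, Nat.eq_of_beq_eq_true he⟩)
    (q := 19) (show 1 < 266 by decide)
    (by rw [card_eq]; decide +kernel) [0, 1, 2] (by decide +kernel) (by decide +kernel) ONJZ.sheet rfl rfl rfl (by decide +kernel)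

end CfsgLib.CosetEnum.ONJC
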